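import Mathlib
import Cfsg.Agent.Prune
set_option linter.all false
prune_inst 0x7f00000000000000000000000000000000000000000000000000000000000000000000000000000000000000000000000000000000000000000000000000000000000000000000000000000000000000003fffffffffffffffffffffffffffbeffbdffffffff
open scoped Cfsg.Agent.FastGrp

/-!
# Groups in which the centralisers of the elements of order 3 are `3 × 3` or `3 × A₄`: consequences of the hypothesis
-/

set_option autoImplicit false

namespace Cfsg.Agent.H322.Cent

open Subgroup

/-- consequences of the hypothesis on the centralisers of the elements of order 3 -/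
structure Q (G : Type*) [Group G] : Prop where
  ex : ∃ s : G, orderOf s = 3
  c : ∀ s : G, orderOf s = 3 →
    Nat.card (centralizer ({s} : Set G)) = 9 ∨ Nat.card (centralizer ({s} : Set G)) = 36
  nine : ∀ s : G, orderOf s ≠ 9
  noinv : ∀ s x t : G, orderOf s = 3 → orderOf x = 3 → s * x = x * s → s * t = t * s → t * x * t⁻¹ ≠ x⁻¹

/-- the centraliser of the image of an element -/
theorem card_centralizer_equiv {G H : Type*} [Group G] [Group H] (e : G ≃* H) (s : G) :
    Nat.card (centralizer ({e s} : Set H)) = Nat.card (centralizer ({s} : Set G)) := by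
  refine (Nat.card_congr (e.toEquiv.subtypeEquiv ?_)).symm
  intro x
  change x ∈ centralizer ({s} : Set G) ↔ e x ∈ centralizer ({e s} : Set H)
  rw [mem_centralizer_singleton_iff, mem_centralizer_singleton_iff, ← map_mul, ← map_mul, e.injective.eq_iff]

theorem Q.of_equiv {G H : Type*} [Group G] [Group H] (e : G ≃* H) (h : Q G) : Q H where
  ex := by
    obtain ⟨s, hs⟩ := h.ex
    exact ⟨e s, by rw [← hs]; exact orderOf_injective e.toMonoidHom e.injective s⟩
  c := by
    intro s hs
    have h1 : orderOf (e.symm s) = 3 := by rw [← hs]; exact orderOf_injective e.symm.toMonoidHom e.symm.injective s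
    have h2 := h.c _ h1
    rw [← card_centralizer_equiv e, e.apply_symm_apply] at h2
    exact h2
  nine := by
    intro s hs
    apply h.nine (e.symm s)
    rw [← hs]
    exact orderOf_injective e.symm.toMonoidHom e.symm.injective s
  noinv := by
    intro s x t hs hx hsx hst htx
    have ho : ∀ y : H, orderOf (e.symm y) = orderOf y :=
      fun y => orderOf_injective e.symm.toMonoidHom e.symm.injective y
    refine h.noinv (e.symm s) (e.symm x) (e.symm t) ((ho s).trans hs) ((ho x).trans hx) ?_ ?_ ?_
    · rw [← map_mul, hsx, map_mul]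
    · rw [← map_mul, hst, map_mul]
    · rw [← map_mul, ← map_inv, ← map_mul, htx, map_inv]

theorem a4_pow (x : alternatingGroup (Fin 4)) : x ^ 6 = 1 := by
  revert x
  decide +kernel

theorem a4_inv (x t : alternatingGroup (Fin 4)) : x ^ 3 = 1 → t * x * t⁻¹ = x⁻¹ → x = 1 := by
  revert x t
  decide +kernel

theorem card_a4 : Nat.card (alternatingGroup (Fin 4)) = 12 := by
  have h := nat_card_alternatingGroup (α := Fin 4)
  rw [Nat.card_eq_fintype_card (α := Fin 4), Fintype.card_fin] at h
  rw [h]
  decide

theorem z3_pow (x : Multiplicative (ZMod 3)) : x ^ 3 = 1 := by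
  revert x
  decide

/-- the hypothesis implies the consequences -/
theorem Q.of_hyp {G : Type*} [Group G] (h3ex : ∃ s : G, orderOf s = 3)
    (h3 : ∀ s : G, orderOf s = 3 →
      Nonempty (↥(centralizer ({s} : Set G)) ≃* (Multiplicative (ZMod 3) × Multiplicative (ZMod 3))) ∨
      Nonempty (↥(centralizer ({s} : Set G)) ≃* (Multiplicative (ZMod 3) × ↥(alternatingGroup (Fin 4))))) :
    Q G where
  ex := h3ex
  c := by
    intro s hs
    rcases h3 s hs with ⟨⟨e⟩⟩ | ⟨⟨e⟩⟩
    · left
      rw [Nat.card_congr e.toEquiv, Nat.card_prod, Nat.card_eq_fintype_card]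
      rfl
    · right
      rw [Nat.card_congr e.toEquiv, Nat.card_prod, card_a4, Nat.card_eq_fintype_card]
      rfl
  nine := by
    intro s hs
    have h9 : orderOf (s ^ 3) = 3 := by
      rw [orderOf_pow' s (by norm_num), hs]
      norm_num
    have hmem : s ∈ centralizer ({s ^ 3} : Set G) := by
      rw [mem_centralizer_singleton_iff, ← pow_succ, ← pow_succ']
    have h6 : s ^ 6 = 1 := by
      rcases h3 _ h9 with ⟨⟨e⟩⟩ | ⟨⟨e⟩⟩
      · have h1 : (⟨s, hmem⟩ : centralizer ({s ^ 3} : Set G)) ^ 6 = 1 := by
          apply e.injective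
          rw [map_pow, map_one, Prod.ext_iff, Prod.pow_fst, Prod.pow_snd]
          constructor
          · change _ = 1
            rw [show (6 : ℕ) = 3 * 2 from rfl, pow_mul, z3_pow, one_pow]
          · change _ = 1
            rw [show (6 : ℕ) = 3 * 2 from rfl, pow_mul, z3_pow, one_pow]
        exact congrArg Subtype.val h1
      · have h1 : (⟨s, hmem⟩ : centralizer ({s ^ 3} : Set G)) ^ 6 = 1 := by
          apply e.injective
          rw [map_pow, map_one, Prod.ext_iff, Prod.pow_fst, Prod.pow_snd]
          constructor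
          · change _ = 1
            rw [show (6 : ℕ) = 3 * 2 from rfl, pow_mul, z3_pow, one_pow]
          · exact a4_pow _
        exact congrArg Subtype.val h1
    have := orderOf_dvd_of_pow_eq_one h6
    rw [hs] at this
    omega
  noinv := by
    intro s x t hs hx hsx hst htx
    have hxm : x ∈ centralizer ({s} : Set G) := by rw [mem_centralizer_singleton_iff, hsx]
    have htm : t ∈ centralizer ({s} : Set G) := by rw [mem_centralizer_singleton_iff, hst]
    let x' : centralizer ({s} : Set G) := ⟨x, hxm⟩
    let t' : centralizer ({s} : Set G) := ⟨t, htm⟩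
    have h1 : t' * x' * t'⁻¹ = x'⁻¹ := Subtype.ext htx
    have h2 : x' ^ 3 = 1 := by
      apply Subtype.ext
      change x ^ 3 = 1
      rw [← hx, pow_orderOf_eq_one]
    have hz : ∀ a b : Multiplicative (ZMod 3), a * b * a⁻¹ = b⁻¹ → b = 1 := by decide
    have h4 : x' = 1 := by
      rcases h3 s hs with ⟨⟨e⟩⟩ | ⟨⟨e⟩⟩
      · apply e.injective
        have h5 : e t' * e x' * (e t')⁻¹ = (e x')⁻¹ := by rw [← map_mul, ← map_inv, ← map_mul, h1, map_inv]
        rw [map_one, Prod.ext_iff]
        exact ⟨hz _ _ (congrArg Prod.fst h5), hz _ _ (congrArg Prod.snd h5)⟩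
      · apply e.injective
        have h5 : e t' * e x' * (e t')⁻¹ = (e x')⁻¹ := by rw [← map_mul, ← map_inv, ← map_mul, h1, map_inv]
        have h6 : (e x') ^ 3 = 1 := by rw [← map_pow, h2, map_one]
        rw [map_one, Prod.ext_iff]
        exact ⟨hz _ _ (congrArg Prod.fst h5), a4_inv _ _ (congrArg Prod.snd h6) (congrArg Prod.snd h5)⟩
    have h5 : x = 1 := congrArg Subtype.val h4
    rw [h5, orderOf_one] at hx
    omega

section

variable {G : Type*} [Group G]

/-- a group commuting with an element of order 3 -/
theorem Q.dvd (h : Q G) {s : G} (hs : orderOf s = 3) {K : Type*} [Group K] (f : K →* G)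
    (hf : Function.Injective f) (hc : ∀ k, s * f k = f k * s) : Nat.card K ∣ 36 := by
  have h1 : Nat.card K ∣ Nat.card (centralizer ({s} : Set G)) := by
    let g : K →* centralizer ({s} : Set G) := f.codRestrict _ fun k => by
      rw [mem_centralizer_singleton_iff, hc]
    have hg : Function.Injective g := fun a b hab => hf (congrArg Subtype.val hab)
    exact card_dvd_of_injective g hg
  rcases h.c s hs with h2 | h2 <;> rw [h2] at h1
  · exact h1.trans (by norm_num)
  · exact h1

/-- elements commuting with an element of order 3 -/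
theorem Q.orderOf_dvd (h : Q G) {s : G} (hs : orderOf s = 3) {y : G} (hc : s * y = y * s) : orderOf y ∣ 36 := by
  rw [← Nat.card_zpowers]
  refine h.dvd hs (zpowers y).subtype (zpowers y).subtype_injective ?_
  rintro ⟨_, n, rfl⟩
  exact ((show Commute s y from hc).zpow_right n).eq

variable [Finite G]

theorem Q.not27 (h : Q G) : ¬ 27 ∣ Nat.card G := by
  intro h27
  have : Fact (Nat.Prime 3) := ⟨Nat.prime_three⟩
  obtain ⟨P, hP⟩ := Sylow.exists_subgroup_card_pow_prime 3 (n := 3) (by simpa using h27)
  have hPp : IsPGroup 3 P := IsPGroup.of_card hP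
  have hnt : Nontrivial P := by
    rw [← Finite.one_lt_card_iff_nontrivial, hP]
    norm_num
  have hcn := hPp.center_nontrivial
  have hcp : IsPGroup 3 (center P) := hPp.to_subgroup _
  obtain ⟨n, hn⟩ := hcp.exists_card_eq
  have hn0 : n ≠ 0 := by
    rintro rfl
    have := Finite.one_lt_card_iff_nontrivial.2 hcn
    rw [hn] at this
    norm_num at this
  obtain ⟨z, hz⟩ := exists_prime_orderOf_dvd_card' (G := center P) 3 (by rw [hn]; exact dvd_pow_self 3 hn0)
  have hz3 : orderOf ((z : P) : G) = 3 := by
    rw [Subgroup.orderOf_coe, Subgroup.orderOf_coe, hz]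
  have h1 := h.dvd hz3 P.subtype P.subtype_injective (by
    intro k
    have := mem_center_iff.1 z.2 k
    exact (congrArg Subtype.val this).symm)
  rw [hP] at h1
  norm_num at h1

omit [Finite G] in
theorem Q.nine_dvd (h : Q G) : 9 ∣ Nat.card G := by
  obtain ⟨s, hs⟩ := h.ex
  have h1 : Nat.card (centralizer ({s} : Set G)) ∣ Nat.card G := card_subgroup_dvd_card _
  rcases h.c s hs with h2 | h2 <;> rw [h2] at h1
  · exact h1
  · exact dvd_trans (by norm_num) h1

omit [Finite G] in
/-- no subgroup of order divisible by 9 has cyclic Sylow 3-subgroups -/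
theorem Q.no_cyc (h : Q G) {K : Type*} [Group K] [Finite K] (f : K →* G) (hf : Function.Injective f)
    (h9 : 9 ∣ Nat.card K) (hcyc : ∀ P : Subgroup K, IsPGroup 3 P → IsCyclic P) : False := by
  have : Fact (Nat.Prime 3) := ⟨Nat.prime_three⟩
  obtain ⟨P, hP⟩ := Sylow.exists_subgroup_card_pow_prime (G := K) 3 (n := 2) (by simpa using h9)
  have hc := hcyc P (IsPGroup.of_card hP)
  obtain ⟨g, hg⟩ := hc.exists_generator
  have h1 := orderOf_eq_card_of_forall_mem_zpowers hg
  apply h.nine (f (g : K))
  rw [orderOf_injective f hf, Subgroup.orderOf_coe, h1, hP]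
  norm_num

end

end Cfsg.Agent.H322.Cent
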